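import Groth.Agent.S3102
import Groth.Agent.S0642
import Groth.Agent.S0101
import Groth.Agent.S0185
import Groth.Agent.Sga5.SepToAlg
import Groth.Agent.Sga4B.TateConst
import Groth.Agent.Sga4B.HTools
import Groth.Agent.Etrest.ConstBasic
import Groth.Agent.Sga4h.X144Alg
import Groth.Prelude.Def_EtCore

/-!
# Poincaré duality over a separably closed field: cardinalities

For `Z` proper and smooth of relative dimension `m` over a separably closed field `Ω` and `N` invertible
in `Ω`, the groups `H^i(Z, ℤ/N)` and `H^{2m-i}(Z, ℤ/N)` are finite of the same cardinality.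
-/

set_option autoImplicit false
universe u
open CategoryTheory CategoryTheory.Limits AlgebraicGeometry Opposite

namespace Groth.Agent.Lefpen.H30.CardDuality

section

universe w v v'

open Abelian

/-- An `Ext` group into an object killed by `n` is killed by `n`. -/
theorem nsmul_ext {C : Type v} [Category.{v'} C] [Abelian C] [HasExt.{w} C] {Z F : C} {n q : ℕ}
    (h : (n • (𝟙 F) : F ⟶ F) = 0) (x : Ext.{w} Z F q) : n • x = 0 := by
  let φ : (F ⟶ F) →+ Ext.{w} Z F q := AddMonoidHom.mk' (fun f => x.comp (Ext.mk₀ f) (add_zero q))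
    (fun f g => by rw [Ext.mk₀_add, Ext.comp_add])
  have h1 : φ (𝟙 F) = x := Ext.comp_mk₀_id x
  rw [← h1, ← map_nsmul, h, map_zero]

end

/-- Multiplication by `n` on a sheaf killed by `n` is zero. -/
theorem nsmul_id {X : Scheme.{u}} {n : ℕ} {F : EtCoh.Ab X}
    (h : EtCoh.KilledBy n F) : (n • (𝟙 F) : F ⟶ F) = 0 := by
  have h2 : (n • (𝟙 F) : F ⟶ F).hom = n • (𝟙 F.obj) :=
    (sheafToPresheaf X.smallEtaleTopology AddCommGrpCat.{u + 1}).map_nsmul
  apply ObjectProperty.hom_ext
  rw [h2]
  ext U s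
  have h3 := h U.unop s
  have h4 : (n • 𝟙 F.obj : F.obj ⟶ F.obj).app U = n • 𝟙 (F.obj.obj U) := rfl
  rw [h4]
  have h5 : (n • 𝟙 (F.obj.obj U) : F.obj.obj U ⟶ F.obj.obj U).hom s = n • s := rfl
  exact h5.trans h3

/-- The cohomology of a sheaf killed by `n` is killed by `n`. -/
theorem nsmul_H {X : Scheme.{u}} {n : ℕ} {F : EtCoh.Ab X} (h : EtCoh.KilledBy n F) (q : ℕ)
    (x : EtCoh.H X F q) : n • x = 0 :=
  nsmul_ext (nsmul_id h) x

/-- Cohomology with constant coefficients is unchanged by passing to the algebraic closure. -/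
theorem nonempty_H_algClosure (k : Type u) [Field k] [IsSepClosed k] {X : Scheme.{u}}
    (f : X ⟶ Spec (CommRingCat.of k)) (M : Type) [AddCommGroup M] (p : ℕ) :
    Nonempty (EtCoh.H X (EtCoh.const X M) p ≃+
      EtCoh.H (pullback f (Groth.Agent.Sga5.SepToAlg.sp k)) (EtCoh.const _ M) p) := by
  let q : pullback f (Groth.Agent.Sga5.SepToAlg.sp k) ⟶ X := pullback.fst f _
  have hq1 : IsIntegralHom q := inferInstance
  have hst : MorphismProperty.IsStableUnderBaseChange (@UniversallyInjective.{u}) := inferInstance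
  have hq2 : UniversallyInjective q :=
    hst.of_isPullback (IsPullback.of_hasPullback f (Groth.Agent.Sga5.SepToAlg.sp k)).flip
      (Groth.Agent.Sga5.SepToAlg.universallyInjective_sp k)
  have hq3 : Surjective q := inferInstance
  have := Groth.Agent.S0101.result q
  have hb := Groth.Agent.S0642.result q (EtCoh.const X M) p
  exact ⟨(AddEquiv.ofBijective _ hb).trans
    (Groth.Agent.Sga4B.HTools.HCongr (EtCore.pullConst q M) p)⟩

/-- Poincaré duality over a separably closed field, constant coefficients. -/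
theorem nonempty_H_dual (k : Type u) [Field k] [IsSepClosed k] (ν : ℕ) (hν : (ν : k) ≠ 0) (n : ℕ)
    {X : Scheme.{u}} (f : X ⟶ Spec (CommRingCat.of k)) [IsProper f] [SmoothOfRelativeDimension n f]
    (i : ℕ) (hi : i ≤ 2 * n) :
    Nonempty (EtCoh.H X (EtCoh.const X (ZMod ν)) (2 * n - i) ≃+
      (EtCoh.H X (EtCoh.const X (ZMod ν)) i →+ ZMod ν)) := by
  let K := AlgebraicClosure k
  let X' : Scheme.{u} := pullback f (Groth.Agent.Sga5.SepToAlg.sp k)
  let f' : X' ⟶ Spec (CommRingCat.of K) := pullback.snd f (Groth.Agent.Sga5.SepToAlg.sp k)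
  have hν' : (ν : K) ≠ 0 := by
    intro h
    apply hν
    apply (algebraMap k K).injective
    rw [map_natCast, map_zero, h]
  have hs : SmoothOfRelativeDimension n f' := by
    have : MorphismProperty.IsStableUnderBaseChange (@SmoothOfRelativeDimension n) :=
      smoothOfRelativeDimension_isStableUnderBaseChange n
    exact this.of_isPullback (IsPullback.of_hasPullback f (Groth.Agent.Sga5.SepToAlg.sp k))
      ‹SmoothOfRelativeDimension n f›
  have hpr : IsProper f' := inferInstance
  obtain ⟨e1⟩ := nonempty_H_algClosure k f (ZMod ν) (2 * n - i)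
  obtain ⟨e2⟩ := nonempty_H_algClosure k f (ZMod ν) i
  obtain ⟨e3⟩ := Groth.Agent.Sga4B.TateConst.nonempty_iso K ν hν' f' n
  obtain ⟨e4⟩ := Groth.Agent.S3102.result K X' f' n ν hν' i hi
  exact ⟨(e1.trans (Groth.Agent.Sga4B.HTools.HCongr e3 _)).trans
    (e4.trans (AddEquiv.addMonoidHomCongrLeft e2.symm))⟩

/-- Finiteness over a separably closed field. -/
theorem finite_H (k : Type u) [Field k] [IsSepClosed k] (N : ℕ) (hN : 0 < N)
    {X : Scheme.{u}} (f : X ⟶ Spec (CommRingCat.of k)) [IsProper f] (i : ℕ) :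
    Finite (EtCoh.H X (EtCoh.const X (ZMod N)) i) := by
  have : NeZero N := ⟨hN.ne'⟩
  exact Groth.Agent.S0185.result X f N hN (EtCoh.const X (ZMod N))
    (Etrest.ConstBasic.isConstructible_const X (ZMod N))
    (Etrest.ConstBasic.killedBy_const X (ZMod N) N (fun a => by simp)) i

/-- Poincaré duality for cardinalities over a separably closed field. -/
theorem card_duality (Ω : Type u) [Field Ω] [IsSepClosed Ω] {Z : Scheme.{u}}
    (h : Z ⟶ Spec (CommRingCat.of Ω)) [IsProper h] (m : ℕ) [SmoothOfRelativeDimension m h]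
    (N : ℕ) (hN : (N : Ω) ≠ 0) (i j : ℕ) (hij : i + j = 2 * m) :
    Finite (EtCoh.H Z (EtCoh.const Z (ZMod N)) i) ∧
      Nat.card (EtCoh.H Z (EtCoh.const Z (ZMod N)) i) =
        Nat.card (EtCoh.H Z (EtCoh.const Z (ZMod N)) j) := by
  have hN0 : 0 < N := Nat.pos_of_ne_zero (by rintro rfl; simp at hN)
  have : NeZero N := ⟨hN0.ne'⟩
  have hfin := finite_H Ω N hN0 h
  refine ⟨hfin i, ?_⟩
  obtain ⟨e⟩ := nonempty_H_dual Ω N hN m h i (by omega)
  have hj : 2 * m - i = j := by omega
  rw [hj] at e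
  have hi := hfin i
  rw [Nat.card_congr e.toEquiv]
  exact (Groth.Agent.Sga4h.X144Alg.card_hom N
    (fun a => nsmul_H (Etrest.ConstBasic.killedBy_const Z (ZMod N) N (fun a => by simp)) i a)).symm

end Groth.Agent.Lefpen.H30.CardDuality
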